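import Cfsg.Agent.H15.Out.Co2Data
import Cfsg.Agent.H36.AutEngine

/-! The classification certificate. -/

set_option autoImplicit false
set_option maxRecDepth 100000

open Cfsg.Agent.H16 Cfsg.Agent.H36.AutEngine Cfsg.Agent.H36

namespace Cfsg.Agent.H15.Out.Co2

/-- Conjugating elements. -/
noncomputable def transZ : TransCert := ⟨301, 301, [1677], [[0, 0], [0, 1], [0, 2], [0, 3], [0, 4], [0, 5]], [317, 336, 352, 367, 382, 399, 414, 433, 448, 462, 479, 494, 509, 524, 541, 555, 566, 578, 592, 608, 624, 640, 654, 666, 676, 693, 711, 7, 721, 732, 748, 764, 779, 301, 791, 803, 813, 827, 842, 856]⟩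

/-- Conjugating elements. -/
noncomputable def trans0 : TransCert := ⟨284, 865, [1401], [[0, 1], [0, 2], [0, 4], [0, 8], [0, 5], [0, 10]], [968, 981, 991, 301, 1004, 1017, 1026, 1034, 1045, 1054, 1061]⟩

/-- The certificate. -/
noncomputable def cert : Cert := ⟨11, 284, 301, 336, 2, 301, 2, [284, 301, 336], [[0, 0, 2, 0, 0, 2, 0, 0, 2, 0, 0, 2, 0, 0, 2, 0, 0, 2, 0, 0, 2, 0, 0, 2, 0, 0, 2, 0, 0, 2, 0, 0, 2, 0, 0, 2, 0, 0, 2, 0, 0, 2], [0, 1, 2, 0, 1, 2, 0, 1, 2, 0, 1, 2, 0, 1, 2, 0, 1, 2, 0, 1, 2, 0, 1, 2, 0, 1, 2, 0, 1, 2, 0, 1, 2, 0, 1, 2, 0, 1, 2, 0, 1, 2]], [[2, 2, 1, 1, 2, 2, 1, 0, 0, 2, 1, 1, 1, 0, 1, 1, 1, 0, 1, 2, 0, 2, 2, 1, 1, 1, 0, 2, 1, 0, 2, 1, 1, 0, 2, 0, 2, 1, 1, 2, 1, 0, 1, 1, 1, 0, 1, 1, 1, 2, 0, 0, 1, 0, 1, 2, 0, 0, 0, 2, 2, 2, 2, 1, 1,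 0, 0, 0, 2, 0, 2, 0, 0, 2, 0, 2, 1, 0, 0, 2, 0, 0, 2, 2, 2, 2, 0, 2], [2, 1, 2, 2, 0, 2, 0, 2, 2, 2, 2, 2, 2, 2, 2, 2, 0, 1, 1, 2, 0, 0, 0, 2, 0, 1, 2, 1, 2, 2, 1, 2, 0, 1, 1, 0, 0, 2, 2, 0, 0, 1, 0, 1, 2, 0, 2, 2, 1, 2, 2, 2, 0, 0, 2, 1, 0, 2, 0, 2, 1, 0, 2, 1, 1, 0, 2, 0, 2, 1, 0, 2, 0, 2, 0, 0, 2, 2, 0], [1, 1, 0, 2, 0, 1, 0, 1, 0, 1, 2, 0, 1, 1, 2, 2, 2, 0, 2, 1, 2, 1, 2, 0, 1, 0, 2, 2, 0, 0, 1, 1, 0, 0, 2, 0, 1, 2, 0, 2, 1, 0, 1, 0, 2, 2, 1, 2, 2, 0, 0, 0, 0, 0, 2, 0, 0, 2, 2, 0, 2, 1, 0, 2, 0, 2, 0, 2, 0, 2, 0, 2, 1, 0, 2, 1]],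
  [⟨1, 284, trans0, [[879, 0], [890, 0], [284, 0], [7, 0], [901, 0], [914, 0], [865, 0], [924, 0], [933, 0], [944, 0], [958, 0]], [⟨301, transZ, [[0, 0], [1, 7, 0], [0, 1], [0, 0], [0, 0], [0, 0], [0, 0], [0, 0], [0, 1], [0, 0], [0, 0], [0, 0], [0, 0], [0, 0], [0, 0], [0, 0], [0, 1], [0, 0], [0, 0], [0, 0], [0, 0], [0, 0], [0, 0], [0, 0], [0, 0], [0, 0], [0, 0], [0, 0], [0, 0], [0, 1], [0, 0], [0, 1], [0, 0], [0, 0], [0, 0], [0, 0], [0, 0], [0, 0], [0, 1], [0, 0]]⟩]⟩]⟩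

end Cfsg.Agent.H15.Out.Co2
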