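import Cfsg.Agent.H15.Out.PairModel
import Cfsg.Agent.H15.Out.Co2Checks
import Cfsg.Agent.H15.Out.Co2Orb
import Cfsg.Agent.H15.Co3Orbits
import Cfsg.Agent.H14.StabSimple
import Cfsg.Prelude.Def_Spor_Conway

/-!
The second Conway group on 2300 pairs, and the order of its outer automorphism group.
-/

set_option autoImplicit false
set_option maxRecDepth 100000

open Equiv Cfsg.Agent.H16 Cfsg.Agent.H36.AutEngine Cfsg.Agent.H36

namespace Cfsg.Agent.H15.Out.Co2

noncomputable section

/-- The stabiliser. -/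
def G0 : Subgroup ↥Co0 := MulAction.stabilizer ↥Co0 bB

theorem gens_fix : (gens.all fun M => checkImg (packCols M.cols) cB cB) = true := by decide +kernel

theorem gens_mem (A : Mat) (hA : A ∈ gens) : matAut A (gens_ok A hA) ∈ G0 :=
  MulAction.mem_stabilizer_iff.2 (smul_eq_self_of_check (gens_ok A hA)
    (List.all_eq_true.1 gens_fix A hA) rfl)

theorem root_ok : leechOk ((List.range 24).map fun i => nib (certPair.pt 0) i) = true := by
  decide +kernel

/-- The first vector. -/
def root : ↥leechLattice := ofCode (certPair.pt 0) root_ok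

theorem pt_exists (k : ℕ) (hk : k < 4600) :
    ∃ y : ↥leechLattice, y.1 = vecOf (certPair.pt k) := by
  obtain ⟨y, -, e⟩ := OrbitCert.mem_orbit gens_ok pcs_eq certPair_ok G0 gens_mem (x0 := root) rfl
    (i := k) (Nat.lt_of_lt_of_eq hk (by decide +kernel))
  exact ⟨y, e⟩

/-- A vector of the orbit. -/
def vec (k : ℕ) : ↥leechLattice := if hk : k < 4600 then (pt_exists k hk).choose else 0

theorem vec_val {k : ℕ} (hk : k < 4600) : (vec k).1 = vecOf (certPair.pt k) := by
  rw [vec, dif_pos hk]; exact (pt_exists k hk).choose_spec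

theorem vec_inj {i j : ℕ} (hi : i < 4600) (hj : j < 4600) (h : vec i = vec j) : i = j := by
  have h' := congrArg Subtype.val h
  rw [vec_val hi, vec_val hj] at h'
  exact OrbitCert.pt_injOn certPair_ok (Nat.lt_of_lt_of_eq hi (by decide +kernel))
    (Nat.lt_of_lt_of_eq hj (by decide +kernel))
    (vecOf_inj (OrbitCert.pt_lt _ _) (OrbitCert.pt_lt _ _) h')

theorem partner_ok : allFrom (fun i => allFrom (fun j => Nat.beq (nb (certPair.pt i) j +
    nb (certPair.pt (i + 2300)) j) (nb cB j + 8)) 24 0) 2300 0 = true := by decide +kernel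

theorem vec_partner {i : ℕ} (hi : i < 2300) : bB - vec i = vec (i + 2300) := by
  refine Subtype.ext (funext fun p => ?_)
  have h := allFrom_spec (allFrom_spec partner_ok i (Nat.zero_le _) (by omega)) (idx p) (Nat.zero_le _)
    (by have := idx_lt p; omega)
  rw [AddSubgroup.coe_sub, Pi.sub_apply, vec_val (by omega), vec_val (by omega)]
  show vecOf cB p - vecOf (certPair.pt i) p = vecOf (certPair.pt (i + 2300)) p
  simp only [vecOf, nib]
  have := Nat.eq_of_beq_eq_true h
  omega

theorem n_eq : ctx.n = 2300 := rfl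

/-- The family of the 2300 pairs. -/
def fam : PairFam ctx.n where
  B := bB
  x i := vec i
  inj i j e := Fin.ext (vec_inj (Nat.lt_trans (Nat.lt_of_lt_of_eq i.2 n_eq) (by norm_num))
    (Nat.lt_trans (Nat.lt_of_lt_of_eq j.2 n_eq) (by norm_num)) e)
  disj i j e := by
    have h1 : (i : ℕ) < 2300 := Nat.lt_of_lt_of_eq i.2 n_eq
    have h2 : (j : ℕ) < 2300 := Nat.lt_of_lt_of_eq j.2 n_eq
    rw [vec_partner h1] at e
    have := vec_inj (by omega) (by omega) e
    omega

/-- The test of an image. -/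
noncomputable def imgOk (k i : ℕ) : Bool :=
  forceNat (ctx.ap (getN ctx.gens k) i) fun j => Nat.blt j 2300 &&
    (checkImg (pcs.getD k ([], 0)) (certPair.pt i) (certPair.pt j) ||
      checkImg (pcs.getD k ([], 0)) (certPair.pt i) (certPair.pt (j + 2300)))

theorem img_ok : allFrom (fun k => allFrom (imgOk k) 2300 0) 3 0 = true := by decide +kernel

theorem gens_length : ctx.gens.length = 3 := by decide +kernel

/-- The matrices. -/
def mg (c : Fin ctx.gens.length) : ↥Co0 :=
  matAut (gens.getD c ⟨[], []⟩) (gens_ok _ (getD_mem (Nat.lt_of_lt_of_eq c.2 gens_length)))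

theorem mg_mem (c : Fin ctx.gens.length) : mg c ∈ G0 :=
  gens_mem _ (getD_mem (Nat.lt_of_lt_of_eq c.2 gens_length))

theorem sends_exists (c : Fin ctx.gens.length) (i : Fin ctx.n) :
    ∃ j : Fin ctx.n, (j : ℕ) = ctx.ap (getN ctx.gens c) i ∧ fam.Sends (mg c) i j := by
  have hc : (c : ℕ) < 3 := Nat.lt_of_lt_of_eq c.2 gens_length
  have hi : (i : ℕ) < 2300 := Nat.lt_of_lt_of_eq i.2 n_eq
  have h := allFrom_spec (allFrom_spec img_ok c (Nat.zero_le _) (by omega)) i (Nat.zero_le _) (by omega)
  simp only [imgOk, forceNat_eq, Bool.and_eq_true, Bool.or_eq_true, Nat.blt_eq] at h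
  obtain ⟨hlt, h⟩ := h
  have hlen : (c : ℕ) < gens.length := Nat.lt_of_lt_of_eq hc rfl
  rw [← pcs_eq, getD_map_of_lt (e := (⟨[], []⟩ : Mat)) _ hlen] at h
  refine ⟨⟨_, hlt⟩, rfl, ?_⟩
  rcases h with h | h
  · refine Or.inl (Subtype.ext ?_)
    show (mg c • vec i).1 = (vec _).1
    rw [vec_val (k := ctx.ap (getN ctx.gens c) i) (by omega)]
    exact smul_eq_of_check _ h (vec_val (by omega))
  · refine Or.inr (Subtype.ext ?_)
    show (mg c • vec i).1 = (bB - vec _).1
    rw [vec_partner hlt, vec_val (k := ctx.ap (getN ctx.gens c) i + 2300) (by omega)]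
    exact smul_eq_of_check _ h (vec_val (by omega))

theorem mg_mon (c : Fin ctx.gens.length) : mg c ∈ fam.submon :=
  ⟨MulAction.mem_stabilizer_iff.1 (mg_mem c), fun i => ⟨_, (sends_exists c i).choose_spec.2⟩⟩

/-- The image map of a generator. -/
def genMap (c : Fin ctx.gens.length) (i : Fin ctx.n) : Fin ctx.n := (sends_exists c i).choose

theorem genMap_inj (c : Fin ctx.gens.length) : Function.Injective (genMap c) := by
  intro i j e
  have hi := (sends_exists c i).choose_spec.2
  have hj := (sends_exists c j).choose_spec.2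
  change fam.Sends (mg c) i (genMap c i) at hi
  change fam.Sends (mg c) j (genMap c j) at hj
  rw [← e] at hj
  have hB : mg c • fam.B = fam.B := MulAction.mem_stabilizer_iff.1 (mg_mem c)
  have key : mg c • fam.x i = mg c • fam.x j ∨ mg c • fam.x i = mg c • (fam.B - fam.x j) := by
    rcases hi with hi | hi <;> rcases hj with hj | hj
    · exact Or.inl (hi.trans hj.symm)
    · exact Or.inr (by rw [co0_smul_sub, hB, hi, hj, sub_sub_cancel])
    · exact Or.inr (by rw [co0_smul_sub, hB, hi, hj])
    · exact Or.inl (hi.trans hj.symm)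
  rcases key with h | h
  · exact fam.inj (smul_left_cancel _ h)
  · exact absurd (smul_left_cancel _ h).symm (fam.disj j i)

/-- The generators. -/
def gen (c : Fin ctx.gens.length) : Perm (Fin ctx.n) :=
  Equiv.ofBijective _ (Finite.injective_iff_bijective.1 (genMap_inj c))

theorem gen_rep (c : Fin ctx.gens.length) : ctx.Rep (gen c) (getN ctx.gens c) := fun i =>
  (sends_exists c i).choose_spec.1

theorem bB_norm : sqNorm (bB : GolayPt → ℤ) = 32 := bB_mem.1

theorem G0_isCo2 : IsCo2 ↥G0 := H14.isCo2_stab bB_norm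

theorem setting_eq : Setting ctx levels gen ∧ Nonempty (↥G0 ≃* ↥(grpOf gen)) :=
  pair_setting fam mg mg_mem mg_mon gen_rep (fun c i => (sends_exists c i).choose_spec.2) slp_ok
    levels_ok (prod_ok.trans G0_isCo2.2.symm)

theorem card_grp : Nat.card (grpOf gen) = 42305421312000 := by
  obtain ⟨e⟩ := setting_eq.2
  rw [← Nat.card_congr e.toEquiv]; exact G0_isCo2.2

theorem fac : (Nat.card (grpOf gen)).factorization cert.p = 1 := by
  rw [card_grp, show cert.p = 11 from rfl, show (42305421312000 : ℕ) = 11 ^ 1 * 3845947392000 by norm_num,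
    Nat.factorization_mul (by norm_num) (by norm_num), Finsupp.add_apply,
    Nat.Prime.factorization_pow (by norm_num),
    Nat.factorization_eq_zero_of_not_dvd (by norm_num : ¬ 11 ∣ 3845947392000)]
  simp

theorem card_out_grp : Nat.card (Cfsg.Out (grpOf gen)) = 1 :=
  card_out_one setting_eq.1 cert_ok fac

theorem nonempty_equiv_G0 : Nonempty (↥Spor.Co2 ≃* ↥G0) := by
  have hle : Spor.Co2 ≤ Co0 := fun g hg => hg.1
  have h1 : Spor.Co2.subgroupOf Co0 = MulAction.stabilizer ↥Co0 Spor.leechU := by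
    ext g
    show (g : Equiv.Perm ↥leechLattice) ∈ Co0 ∧ g • Spor.leechU = Spor.leechU ↔ g • Spor.leechU = Spor.leechU
    exact ⟨fun h => h.2, fun h => ⟨g.2, h⟩⟩
  obtain ⟨g, -, e⟩ := H14.exists_act_min (H14.IsLeech.coe Spor.leechU)
    (show sqNorm Spor.vecU = 32 by decide +kernel) (H14.IsLeech.coe bB) bB_norm
  exact ⟨((Subgroup.subgroupOfEquivOfLe hle).symm.trans (MulEquiv.subgroupCongr h1)).trans
    (H14.stabEquiv g (H14.smul_eq_of_act e))⟩

theorem card_out_co2 : Nat.card (Cfsg.Out ↥Spor.Co2) = 1 := by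
  obtain ⟨e⟩ := nonempty_equiv_G0
  obtain ⟨e'⟩ := setting_eq.2
  rw [card_out_congr (e.trans e')]
  exact card_out_grp

end

end Cfsg.Agent.H15.Out.Co2
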