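import Cfsg.Agent.H15.Out.Co3Data
import Cfsg.Agent.H36.AutEngine

/-! The classification certificate. -/

set_option autoImplicit false
set_option maxRecDepth 100000

open Cfsg.Agent.H16 Cfsg.Agent.H36.AutEngine Cfsg.Agent.H36

namespace Cfsg.Agent.H15.Out.Co3

/-- Conjugating elements. -/
noncomputable def transZ : TransCert := ⟨264, 264, [111], [[0, 0], [0, 1], [0, 2], [0, 3], [0, 4], [0, 5]], [293, 319, 350, 384, 410, 436, 6, 465, 489, 515, 551, 581, 264, 603, 625, 656, 682, 714, 742, 767, 798, 816]⟩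

/-- Conjugating elements. -/
noncomputable def trans0 : TransCert := ⟨242, 841, [151], [[0, 1], [0, 2], [0, 4], [0, 8], [0, 16], [0, 9]], [1244, 1259, 1273, 1299, 1311, 1329, 1351, 1366, 1373, 1387, 1404, 264, 1418, 1427, 1437, 1447, 1452, 1465, 1478, 1487, 1504, 1511, 1530]⟩

/-- Conjugating elements. -/
noncomputable def trans1 : TransCert := ⟨1221, 1073, [151], [[0, 14], [0, 5], [0, 10], [0, 20], [0, 17], [0, 11]], [1244, 1259, 1273, 1299, 1311, 1329, 1351, 1366, 1373, 1387, 1404, 264, 1418, 1427, 1437, 1447, 1452, 1465, 1478, 1487, 1504, 1511, 1530]⟩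

/-- The certificate. -/
noncomputable def cert : Cert := ⟨23, 242, 264, 384, 2, 264, 2, [242, 264, 384], [[0, 0, 2, 0, 0, 2, 0, 0, 2, 0, 0, 2, 0, 0, 2, 0, 0, 2, 0, 0, 2, 0, 0, 2, 0, 0, 2, 0, 0, 2, 0, 0, 2, 0, 0, 2, 0, 0, 2, 0, 0, 2, 0, 0, 2, 0, 0, 2, 0, 0, 2, 0, 0, 2, 0, 0, 2, 0, 0, 2], [0, 1, 2, 0, 1, 2, 0, 1, 2, 0, 1, 2, 0, 1, 2, 0, 1, 2, 0, 1, 2, 0, 1, 2, 0, 1, 2, 0, 1, 2, 0, 1, 2, 0, 1, 2, 0, 1, 2, 0, 1, 2]], [[0, 1, 0, 1, 1, 1, 2, 0, 0, 2, 0, 1, 0, 2, 0, 1, 2, 0, 1, 2, 0, 0, 2, 0, 0, 0, 2, 0, 1, 0, 2, 1, 1, 1, 0, 2, 0, 2], [0, 0, 2, 0, 2, 0, 0, 2, 0, 2, 0, 1, 1, 0, 1, 2, 0, 1, 0, 2, 1, 0, 2, 1, 1, 0, 0, 2, 0, 1, 1, 1, 0, 0, 2, 0, 1]],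
  [⟨1, 242, trans0, [[868, 0], [881, 0], [897, 0], [914, 0], [941, 0], [965, 0], [242, 0], [989, 0], [1000, 0], [841, 0], [1024, 0], [6, 0], [1036, 0], [1051, 0], [1073, 0], [1090, 0], [1118, 0], [1141, 0], [1158, 0], [1167, 0], [1191, 0], [1208, 0], [1221, 0]], [⟨264, transZ, [[0, 0], [0, 0], [0, 0], [1, 6, 0], [0, 0], [0, 0], [0, 0], [0, 1], [0, 0], [0, 0], [0, 0], [0, 0], [0, 0], [0, 0], [0, 0], [0, 0], [0, 0], [0, 0], [0, 0], [0, 0], [0, 0], [0, 1]]⟩]⟩,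
   ⟨5, 1221, trans1, [[868, 0], [881, 0], [897, 0], [914, 0], [941, 0], [965, 0], [242, 0], [989, 0], [1000, 0], [841, 0], [1024, 0], [6, 0], [1036, 0], [1051, 0], [1073, 0], [1090, 0], [1118, 0], [1141, 0], [1158, 0], [1167, 0], [1191, 0], [1208, 0], [1221, 0]], [⟨264, transZ, [[0, 0], [0, 0], [0, 0], [0, 0], [0, 0], [0, 0], [0, 0], [0, 0], [0, 1], [0, 0], [0, 0], [0, 0], [0, 0], [0, 0], [0, 0], [0, 0], [0, 1], [0, 1], [0, 0], [0, 0], [0, 0], [0, 0]]⟩]⟩]⟩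

end Cfsg.Agent.H15.Out.Co3
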