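import Cfsg.Agent.H15.Out.Co3Data

/-! Kernel checks of the straight-line program. -/

set_option autoImplicit false
set_option maxRecDepth 100000

open Cfsg.Agent.H16 Cfsg.Agent.H36.AutEngine Cfsg.Agent.H36

namespace Cfsg.Agent.H15.Out.Co3

theorem slp_block3 : allFrom (fun k => ctx.slpOk k) 383 1148 = true := by decide +kernel

end Cfsg.Agent.H15.Out.Co3
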