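import Cfsg.Agent.H15.Out.Co3Cert
import Cfsg.Agent.H15.Out.Co3Slp0
import Cfsg.Agent.H15.Out.Co3Slp1
import Cfsg.Agent.H15.Out.Co3Slp2
import Cfsg.Agent.H15.Out.Co3Slp3

/-! Kernel checks of the levels and the certificate. -/

set_option autoImplicit false
set_option maxRecDepth 100000

open Cfsg.Agent.H16 Cfsg.Agent.H36.AutEngine Cfsg.Agent.H36

namespace Cfsg.Agent.H15.Out.Co3

theorem slp_ok : ∀ k, k < ctx.ns → ctx.slpOk k = true := (allFrom_extend (allFrom_extend (allFrom_extend (allFrom_extend allFrom_nil slp_block0) slp_block1) slp_block2) slp_block3)

theorem levels_ok : ctx.levelsOk levels [] = true := by decide +kernel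

theorem prod_ok : ctx.prodCnt levels = 495766656000 := by
  apply Nat.eq_of_beq_eq_true
  decide +kernel

theorem transZ_ok : TransOk ctx levels transZ where
  shape := by decide +kernel
  cand := fun m hm => allFrom_spec (show allFrom (fun m => ctx.candOk levels transZ m) 552 0 = true by decide +kernel)
    m (Nat.zero_le _) (by simpa [transZ, ctx] using hm)

theorem trans0_ok : TransOk ctx levels trans0 where
  shape := by decide +kernel
  cand := fun m hm => allFrom_spec (show allFrom (fun m => ctx.candOk levels trans0 m) 552 0 = true by decide +kernel)
    m (Nat.zero_le _) (by simpa [trans0, ctx] using hm)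

theorem trans1_ok : TransOk ctx levels trans1 where
  shape := by decide +kernel
  cand := fun m hm => allFrom_spec (show allFrom (fun m => ctx.candOk levels trans1 m) 552 0 = true by decide +kernel)
    m (Nat.zero_le _) (by simpa [trans1, ctx] using hm)

theorem main_ok : ctx.certOk levels cert = true := by decide +kernel

theorem cases_ok : (cert.cases.all fun C => ctx.caseOk levels cert C && C.branches.all fun B => ctx.branchOk levels cert 0 C B) = true := by decide +kernel

theorem cert_ok : CertOk ctx levels cert 0 where
  main := main_ok
  prime := show Nat.Prime 23 by norm_num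
  cases := fun C hC => by
    have h := List.all_eq_true.1 cases_ok C hC
    simp only [Bool.and_eq_true, List.all_eq_true] at h
    refine ⟨h.1, ?_, fun B hB => ⟨h.2 B hB, ?_⟩⟩
    · simp only [cert, List.mem_cons, List.not_mem_nil, or_false] at hC
      rcases hC with rfl | rfl
      · exact trans0_ok
      · exact trans1_ok
    · simp only [cert, List.mem_cons, List.not_mem_nil, or_false] at hC
      rcases hC with rfl | rfl <;>
      · simp only [List.mem_cons, List.not_mem_nil, or_false] at hB
        rcases hB with rfl
        exact transZ_ok

end Cfsg.Agent.H15.Out.Co3
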