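import Cfsg.Agent.H15.Out.PtModel
import Cfsg.Agent.H15.Out.Co3Checks
import Cfsg.Agent.H15.Co3Orbits
import Cfsg.Agent.H14.StabSimple
import Cfsg.Prelude.Def_Spor_Conway

/-!
The third Conway group on 552 points, and the order of its outer automorphism group.
-/

set_option autoImplicit false
set_option maxRecDepth 100000

open Equiv Cfsg.Agent.H16 Cfsg.Agent.H36.AutEngine Cfsg.Agent.H36

namespace Cfsg.Agent.H15.Out.Co3

noncomputable section

/-- The stabiliser. -/
def G0 : Subgroup ↥Co0 := MulAction.stabilizer ↥Co0 bV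

theorem gens_fix : (Data.gensCo3.all fun M => [cV].all fun P =>
    checkImg (packCols M.cols) P P) = true := by decide +kernel

theorem gens_mem (A : Mat) (hA : A ∈ Data.gensCo3) : matAut A (Data.gensCo3_ok A hA) ∈ G0 := by
  have hfix := gens_fix
  simp only [List.all_eq_true] at hfix
  exact fixCodes_cV_le fun P hP _ hx =>
    smul_eq_self_of_check (Data.gensCo3_ok A hA) (hfix A hA P hP) hx

theorem pt_exists (i : Fin ctx.n) :
    ∃ x : ↥(setB bV), (x : ↥leechLattice).1 = vecOf (Data.certB.pt i) := by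
  obtain ⟨y, hy, e⟩ := OrbitCert.mem_orbit Data.gensCo3_ok Data.pcsCo3_eq Data.certB_ok G0
    gens_mem (x0 := bB) (congrArg vecOf (by decide +kernel : cB = Data.certB.pt 0)) (i := i.1)
    (Nat.lt_of_lt_of_eq i.2 (by decide +kernel))
  exact ⟨⟨y, orbit_bB.1 ▸ hy⟩, e⟩

/-- A point. -/
def ptVec (i : Fin ctx.n) : ↥leechLattice := (pt_exists i).choose.1

theorem ptVec_val (i : Fin ctx.n) : (ptVec i).1 = vecOf (Data.certB.pt i) :=
  (pt_exists i).choose_spec

theorem ptVec_inj : Function.Injective ptVec := fun i j e => by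
  have h := congrArg Subtype.val e
  rw [ptVec_val, ptVec_val] at h
  exact Fin.ext (OrbitCert.pt_injOn Data.certB_ok
    (Nat.lt_of_lt_of_eq i.2 (by decide +kernel)) (Nat.lt_of_lt_of_eq j.2 (by decide +kernel))
    (vecOf_inj (OrbitCert.pt_lt _ _) (OrbitCert.pt_lt _ _) h))

/-- The family of the 552 vectors. -/
def fam : PtFam ctx.n where
  G := G0
  pt := ptVec
  inj := ptVec_inj
  stable g hg i := by
    have hmem : g • ptVec i ∈ setB bV := by
      have := (smul_mem_setB g).2 (pt_exists i).choose.2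
      rwa [MulAction.mem_stabilizer_iff.1 hg] at this
    obtain ⟨j, hj, e⟩ := orbit_bB.2.2 _ hmem
    have hj' : j < ctx.n := Nat.lt_of_lt_of_eq hj (by decide +kernel)
    exact ⟨⟨j, hj'⟩, Subtype.ext (e.trans (ptVec_val ⟨j, hj'⟩).symm)⟩

theorem G0_isCo3 : IsCo3 ↥G0 := H14.isCo3_stab bV_norm

theorem gen_ok : genImgOk Data.pcsCo3 Data.certB ctx ctx.gens := by
  have h : allFrom (fun k => allFrom (fun i => Nat.blt (ctx.ap (getN ctx.gens k) i) 552 &&
      checkImg (Data.pcsCo3.getD k ([], 0)) (Data.certB.pt i)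
        (Data.certB.pt (ctx.ap (getN ctx.gens k) i))) 552 0) 2 0 = true := by decide +kernel
  intro k hk i hi
  have := allFrom_spec (allFrom_spec h k (Nat.zero_le _) (Nat.lt_of_lt_of_eq hk rfl)) i (Nat.zero_le _)
    (Nat.lt_of_lt_of_eq hi rfl)
  simp only [Bool.and_eq_true, Nat.blt_eq] at this
  exact this

/-- The generators. -/
def gen (c : Fin ctx.gens.length) : Perm (Fin ctx.n) :=
  genPerm fam (C := Data.certB) ptVec_val Data.gensCo3_ok Data.pcsCo3_eq gens_mem rfl gen_ok c

theorem gen_spec (c : Fin ctx.gens.length) :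
    gen c ∈ fam.rho.range ∧ ctx.Rep (gen c) (getN ctx.gens c) :=
  (exists_gen_perm fam (C := Data.certB) ptVec_val Data.gensCo3_ok Data.pcsCo3_eq gens_mem rfl
    gen_ok c).choose_spec

theorem rho_inj : Function.Injective fam.rho := by
  obtain ⟨⟨g, hg⟩, hr⟩ := gen_spec ⟨0, by decide +kernel⟩
  have hm : (ctx.ap (getN ctx.gens 0) 0 == 0) = false ∨ (ctx.ap (getN ctx.gens 0) 1 == 1) = false := by
    decide +kernel
  rcases hm with hm | hm
  · refine fam.rho_injective G0_isCo3.1 (g := g) (i := ⟨0, by decide +kernel⟩) fun e => ?_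
    have := hr ⟨0, by decide +kernel⟩
    rw [← hg, e] at this
    simp [← this] at hm
  · refine fam.rho_injective G0_isCo3.1 (g := g) (i := ⟨1, by decide +kernel⟩) fun e => ?_
    have := hr ⟨1, by decide +kernel⟩
    rw [← hg, e] at this
    simp [← this] at hm

theorem setting_eq : Setting ctx levels gen ∧ grpOf gen = fam.rho.range :=
  setting_of_model fam rho_inj (fun c => (gen_spec c).1) (fun c => (gen_spec c).2) slp_ok levels_ok
    (prod_ok.trans G0_isCo3.2.symm)

/-- The group and its permutation image. -/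
def equivG0 : ↥G0 ≃* ↥(grpOf gen) := modelEquiv fam rho_inj setting_eq.2

theorem card_grp : Nat.card (grpOf gen) = 495766656000 := by
  rw [← Nat.card_congr equivG0.toEquiv]; exact G0_isCo3.2

theorem fac : (Nat.card (grpOf gen)).factorization cert.p = 1 := by
  rw [card_grp, show cert.p = 23 from rfl, show (495766656000 : ℕ) = 23 ^ 1 * 21555072000 by norm_num,
    Nat.factorization_mul (by norm_num) (by norm_num), Finsupp.add_apply,
    Nat.Prime.factorization_pow (by norm_num),
    Nat.factorization_eq_zero_of_not_dvd (by norm_num : ¬ 23 ∣ 21555072000)]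
  simp

theorem card_out_grp : Nat.card (Cfsg.Out (grpOf gen)) = 1 :=
  card_out_one setting_eq.1 cert_ok fac

theorem nonempty_equiv_G0 : Nonempty (↥Spor.Co3 ≃* ↥G0) := by
  have hle : Spor.Co3 ≤ Co0 := fun g hg => hg.1
  have h1 : Spor.Co3.subgroupOf Co0 = MulAction.stabilizer ↥Co0 Spor.leechV := by
    ext g
    show (g : Equiv.Perm ↥leechLattice) ∈ Co0 ∧ g • Spor.leechV = Spor.leechV ↔ g • Spor.leechV = Spor.leechV
    exact ⟨fun h => h.2, fun h => ⟨g.2, h⟩⟩
  obtain ⟨g, hg⟩ := exists_red48 (u := Spor.leechV)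
    (show sqNorm Spor.vecV = 48 by decide +kernel)
  exact ⟨((Subgroup.subgroupOfEquivOfLe hle).symm.trans (MulEquiv.subgroupCongr h1)).trans
    (H14.stabEquiv g hg)⟩

theorem card_out_co3 : Nat.card (Cfsg.Out ↥Spor.Co3) = 1 := by
  obtain ⟨e⟩ := nonempty_equiv_G0
  rw [card_out_congr (e.trans equivG0)]
  exact card_out_grp

end

end Cfsg.Agent.H15.Out.Co3
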