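import Cfsg.Agent.H15.Out.McLData
import Cfsg.Agent.H36.AutEngine

/-! The classification certificate. -/

set_option autoImplicit false
set_option maxRecDepth 100000

open Cfsg.Agent.H16 Cfsg.Agent.H36.AutEngine Cfsg.Agent.H36

namespace Cfsg.Agent.H15.Out.McL

/-- Conjugating elements. -/
noncomputable def transZ : TransCert := ⟨164, 164, [83], [[0, 0], [0, 1], [0, 2], [0, 3], [0, 4]], [181, 205, 226, 251, 267, 289, 308, 6, 330, 353, 367, 389, 402, 420, 164, 442, 460, 484, 503, 519, 533, 556, 576, 591, 611]⟩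

/-- Conjugating elements. -/
noncomputable def trans0 : TransCert := ⟨143, 614, [168], [[0, 1], [0, 3], [0, 9], [0, 5], [0, 4]], [736, 743, 750, 763, 772, 780, 792, 164, 798, 809, 825]⟩

/-- Conjugating elements. -/
noncomputable def trans1 : TransCert := ⟨693, 626, [168], [[0, 6], [0, 7], [0, 10], [0, 8], [0, 2]], [736, 743, 750, 763, 772, 780, 792, 164, 798, 809, 825]⟩

/-- Conjugating elements. -/
noncomputable def outerTrans : TransCert := ⟨143, 143, [168], [[0, 1], [0, 3], [0, 9], [0, 5], [0, 4]], [679, 726, 670, 143, 693, 707, 654, 6, 614, 640, 626]⟩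

/-- The certificate. -/
noncomputable def cert : Cert := ⟨11, 143, 164, 226, 3, 164, 3, [143, 164, 402], [[0, 0, 2, 0, 0, 2, 0, 0, 2, 0, 0, 2, 0, 0, 2, 0, 0, 2, 0, 0, 2], [0, 1, 2, 0, 1, 2, 0, 1, 2, 0, 1, 2, 0, 1, 2, 0, 1, 2, 0, 1, 2, 0, 1, 2, 0, 1, 2, 0, 1, 2, 0, 1, 2]], [[0, 1, 0, 2, 2, 0, 1, 2, 0, 2, 0, 2, 0, 0, 2, 0, 0, 1, 0, 0, 2, 0, 1], [0, 2, 0, 2, 0, 0, 1, 2, 0, 0, 2, 2, 0, 1, 1, 0, 2, 0, 2, 2, 1, 1, 0, 2]],
  [⟨1, 143, trans0, [[626, 0], [640, 0], [654, 0], [670, 0], [614, 0], [679, 0], [693, 0], [6, 0], [707, 0], [143, 0], [726, 0]], [⟨164, transZ, [[0, 0], [0, 0], [1, 6, 0], [0, 0], [0, 0], [0, 0], [0, 0], [0, 0], [0, 0], [0, 0], [0, 0], [0, 0], [1, 6, 1], [0, 0], [0, 0], [0, 0], [0, 0], [0, 0], [0, 0], [0, 0], [0, 0], [0, 0], [0, 0], [0, 0], [0, 0]]⟩]⟩,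
   ⟨2, 693, trans1, [[626, 0], [640, 0], [654, 0], [670, 0], [614, 0], [679, 0], [693, 0], [6, 0], [707, 0], [143, 0], [726, 0]], [⟨164, transZ, [[0, 0], [0, 0], [0, 1], [0, 0], [0, 0], [0, 0], [0, 0], [0, 0], [0, 0], [0, 0], [0, 0], [0, 0], [0, 1], [0, 0], [0, 0], [0, 0], [0, 0], [0, 0], [0, 0], [0, 0], [0, 0], [0, 0], [0, 0], [0, 0], [0, 0]]⟩]⟩]⟩

/-- The outer permutation. -/
noncomputable def outerPerm : ℕ := 0x3e616f76bbc06c188891044394903a0a33818285eb8522cd7c784e16e2487881698ccc17115a50e389dd8435133640c756597820bf11b6d4602639cc74d3711d9d48187a28f61b6e3c47c543d1d038f473820060b6fbd43a5c5bbb4c8c0723f41e41250a0af00619f4985f7f0809c170688516110a8d08ea8390c54aff70a08529f5006832fb03830965d3f958d6651641caa5242a191a4856b5860707c2391e6d3e289b0404b8796c836ab3c6efc77369d0ce6f29dde88361a9086f4a9b8a0130499928c12680002145a39930c47d3d82c385ca5922d029a405669192c4c6b54caec788c548fde50a2110d7880233445a4912b7610583cc35d8aa8213d4c8980bcc7a932887d42ba093ac762471c255cb2151f98acd6a2793b0c5816556603409d58e55ec195e9a64408ceca4dba40a0464b80c262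

/-- Its inverse. -/
noncomputable def outerInv : ℕ := 0x3e616f76bbc06c188891044394903a0a33818285eb8522cd7c784e16e2487881698ccc17115a50e389dd8435133640c756597820bf11b6d4602639cc74d3711d9d48187a28f61b6e3c47c543d1d038f473820060b6fbd43a5c5bbb4c8c0723f41e41250a0af00619f4985f7f0809c170688516110a8d08ea8390c54aff70a08529f5006832fb03830965d3f958d6651641caa5242a191a4856b5860707c2391e6d3e289b0404b8796c836ab3c6efc77369d0ce6f29dde88361a9086f4a9b8a0130499928c12680002145a39930c47d3d82c385ca5922d029a405669192c4c6b54caec788c548fde50a2110d7880233445a4912b7610583cc35d8aa8213d4c8980bcc7a932887d42ba093ac762471c255cb2151f98acd6a2793b0c5816556603409d58e55ec195e9a64408ceca4dba40a0464b80c262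

/-- Images of the generators. -/
noncomputable def outerImg : List ℕ := [842, 856]

/-- Images under the inverse. -/
noncomputable def outerImgInv : List ℕ := [842, 856]

end Cfsg.Agent.H15.Out.McL
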