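import Cfsg.Agent.H15.Out.McLCert
import Cfsg.Agent.H15.Out.McLSlp0
import Cfsg.Agent.H15.Out.McLSlp1

/-! Kernel checks of the levels and the certificate. -/

set_option autoImplicit false
set_option maxRecDepth 100000

open Cfsg.Agent.H16 Cfsg.Agent.H36.AutEngine Cfsg.Agent.H36

namespace Cfsg.Agent.H15.Out.McL

theorem slp_ok : ∀ k, k < ctx.ns → ctx.slpOk k = true := (allFrom_extend (allFrom_extend allFrom_nil slp_block0) slp_block1)

theorem levels_ok : ctx.levelsOk levels [] = true := by decide +kernel

theorem prod_ok : ctx.prodCnt levels = 898128000 := by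
  apply Nat.eq_of_beq_eq_true
  decide +kernel

theorem transZ_ok : TransOk ctx levels transZ where
  shape := by decide +kernel
  cand := fun m hm => allFrom_spec (show allFrom (fun m => ctx.candOk levels transZ m) 275 0 = true by decide +kernel)
    m (Nat.zero_le _) (by simpa [transZ, ctx] using hm)

theorem trans0_ok : TransOk ctx levels trans0 where
  shape := by decide +kernel
  cand := fun m hm => allFrom_spec (show allFrom (fun m => ctx.candOk levels trans0 m) 275 0 = true by decide +kernel)
    m (Nat.zero_le _) (by simpa [trans0, ctx] using hm)

theorem trans1_ok : TransOk ctx levels trans1 where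
  shape := by decide +kernel
  cand := fun m hm => allFrom_spec (show allFrom (fun m => ctx.candOk levels trans1 m) 275 0 = true by decide +kernel)
    m (Nat.zero_le _) (by simpa [trans1, ctx] using hm)

theorem outerTrans_ok : TransOk ctx levels outerTrans where
  shape := by decide +kernel
  cand := fun m hm => allFrom_spec (show allFrom (fun m => ctx.candOk levels outerTrans m) 275 0 = true by decide +kernel)
    m (Nat.zero_le _) (by simpa [outerTrans, ctx] using hm)

theorem main_ok : ctx.certOk levels cert = true := by decide +kernel

theorem cases_ok : (cert.cases.all fun C => ctx.caseOk levels cert C && C.branches.all fun B => ctx.branchOk levels cert 1 C B) = true := by decide +kernel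

theorem cert_ok : CertOk ctx levels cert 1 where
  main := main_ok
  prime := show Nat.Prime 11 by norm_num
  cases := fun C hC => by
    have h := List.all_eq_true.1 cases_ok C hC
    simp only [Bool.and_eq_true, List.all_eq_true] at h
    refine ⟨h.1, ?_, fun B hB => ⟨h.2 B hB, ?_⟩⟩
    · simp only [cert, List.mem_cons, List.not_mem_nil, or_false] at hC
      rcases hC with rfl | rfl
      · exact trans0_ok
      · exact trans1_ok
    · simp only [cert, List.mem_cons, List.not_mem_nil, or_false] at hC
      rcases hC with rfl | rfl <;>
      · simp only [List.mem_cons, List.not_mem_nil, or_false] at hB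
        rcases hB with rfl
        exact transZ_ok

theorem outer_inv_ok : (ctx.allPts fun x => Nat.beq (ctx.ap outerInv (ctx.ap outerPerm x)) x && Nat.beq (ctx.ap outerPerm (ctx.ap outerInv x)) x &&
    Nat.blt (ctx.ap outerPerm x) ctx.n && Nat.blt (ctx.ap outerInv x) ctx.n) = true := by decide +kernel

theorem outer_img_ok : allFrom (fun k => Nat.blt (getN outerImg k) ctx.ns && Nat.blt (getN outerImgInv k) ctx.ns &&
      ctx.allPts (fun x => Nat.beq (ctx.ap outerPerm (ctx.ap (getN ctx.gens k) (ctx.ap outerInv x))) (ctx.ap (ctx.el (getN outerImg k)) x)) &&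
      ctx.allPts (fun x => Nat.beq (ctx.ap outerInv (ctx.ap (getN ctx.gens k) (ctx.ap outerPerm x))) (ctx.ap (ctx.el (getN outerImgInv k)) x)))
      ctx.gens.length 0 = true := by decide +kernel

theorem outer_triple_ok : allFrom (fun a => ctx.allPts fun x => Nat.beq
    (ctx.ap outerPerm (ctx.ap (ctx.el (getN [cert.xi, cert.wi, cert.zi] a)) (ctx.ap outerInv x)))
    (ctx.ap (ctx.el (getN cert.other a)) x)) 3 0 = true := by decide +kernel

theorem other_lt : ([cert.xi, cert.wi, cert.zi] ++ cert.other).all (fun a => Nat.blt a ctx.ns) = true := by decide +kernel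

/-- No element of the first transporter respects the other two images. -/
theorem outer_not_inner : outerTrans.sols.all (fun c => !(ctx.eqOn levels [c, cert.wi] [getN cert.other 1, c] &&
    ctx.eqOn levels [c, cert.zi] [getN cert.other 2, c])) = true := by decide +kernel

end Cfsg.Agent.H15.Out.McL
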