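import Cfsg.Agent.H15.Out.PtModel
import Cfsg.Agent.H15.Out.McLChecks
import Cfsg.Agent.H15.McLOrbits
import Cfsg.Agent.H14.StabSimple
import Cfsg.Prelude.Def_Spor_Conway

/-!
The McLaughlin group on 275 points, and the order of its outer automorphism group.
-/

set_option autoImplicit false
set_option maxRecDepth 100000

open Equiv Cfsg.Agent.H16 Cfsg.Agent.H36.AutEngine Cfsg.Agent.H36

namespace Cfsg.Agent.H15.Out.McL

noncomputable section

/-- The configuration stabiliser. -/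
def G0 : Subgroup ↥Co0 := MulAction.stabilizer ↥Co0 bV ⊓ MulAction.stabilizer ↥Co0 bB

theorem gens_fix : (Data.gensMcL.all fun M => [cV, cB].all fun P =>
    checkImg (packCols M.cols) P P) = true := by decide +kernel

theorem gens_mem (A : Mat) (hA : A ∈ Data.gensMcL) : matAut A (Data.gensMcL_ok A hA) ∈ G0 := by
  have hfix := gens_fix
  simp only [List.all_eq_true] at hfix
  exact fixCodes_VB_le fun P hP _ hx =>
    smul_eq_self_of_check (Data.gensMcL_ok A hA) (hfix A hA P hP) hx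

theorem pt_exists (i : Fin ctx.n) :
    ∃ x : ↥(set275 bV bB), (x : ↥leechLattice).1 = vecOf (Data.certC275.pt i) := by
  obtain ⟨y, hy, e⟩ := OrbitCert.mem_orbit Data.gensMcL_ok Data.pcsMcL_eq Data.certC275_ok G0
    gens_mem (x0 := b275) (congrArg vecOf (by decide +kernel : c275 = Data.certC275.pt 0)) (i := i.1)
    (Nat.lt_of_lt_of_eq i.2 (by decide +kernel))
  exact ⟨⟨y, orbit_275.1 ▸ hy⟩, e⟩

/-- A point. -/
def ptVec (i : Fin ctx.n) : ↥leechLattice := (pt_exists i).choose.1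

theorem ptVec_val (i : Fin ctx.n) : (ptVec i).1 = vecOf (Data.certC275.pt i) :=
  (pt_exists i).choose_spec

theorem ptVec_inj : Function.Injective ptVec := fun i j e => by
  have h := congrArg Subtype.val e
  rw [ptVec_val, ptVec_val] at h
  exact Fin.ext (OrbitCert.pt_injOn Data.certC275_ok
    (Nat.lt_of_lt_of_eq i.2 (by decide +kernel)) (Nat.lt_of_lt_of_eq j.2 (by decide +kernel))
    (vecOf_inj (OrbitCert.pt_lt _ _) (OrbitCert.pt_lt _ _) h))

/-- The family of the 275 vectors. -/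
def fam : PtFam ctx.n where
  G := G0
  pt := ptVec
  inj := ptVec_inj
  stable g hg i := by
    have hmem : g • ptVec i ∈ set275 bV bB := by
      have := (smul_mem_set275 g).2 (pt_exists i).choose.2
      rwa [MulAction.mem_stabilizer_iff.1 hg.1, MulAction.mem_stabilizer_iff.1 hg.2] at this
    obtain ⟨j, hj, e⟩ := orbit_275.2.2 _ hmem
    have hj' : j < ctx.n := Nat.lt_of_lt_of_eq hj (by decide +kernel)
    exact ⟨⟨j, hj'⟩, Subtype.ext (e.trans (ptVec_val ⟨j, hj'⟩).symm)⟩

theorem pair_norms : sqNorm (bB : GolayPt → ℤ) = 32 ∧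
    sqNorm ((bV - bB : ↥leechLattice) : GolayPt → ℤ) = 32 ∧
    dotInt (bB : GolayPt → ℤ) ((bV - bB : ↥leechLattice) : GolayPt → ℤ) = -8 := by
  have hB : sqNorm (bB : GolayPt → ℤ) = 32 := bB_mem.1
  have hd : dotInt (bV : GolayPt → ℤ) (bB : GolayPt → ℤ) = 24 := bB_mem.2
  refine ⟨hB, ?_, ?_⟩
  · rw [AddSubgroup.coe_sub, H14.sqNorm_sub, bV_norm, hB, hd]; norm_num
  · rw [AddSubgroup.coe_sub, H14.dotInt_sub_right, H14.dotInt_self, hB, H14.dotInt_comm, hd]
    norm_num

theorem G0_eq : MulAction.stabilizer ↥Co0 bB ⊓ MulAction.stabilizer ↥Co0 (bV - bB) = G0 := by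
  ext g
  simp only [G0, Subgroup.mem_inf, MulAction.mem_stabilizer_iff]
  constructor
  · rintro ⟨h1, h2⟩
    rw [co0_smul_sub, h1] at h2
    exact ⟨sub_left_injective h2, h1⟩
  · rintro ⟨h1, h2⟩
    exact ⟨h2, by rw [co0_smul_sub, h1, h2]⟩

theorem G0_isMcL : IsMcL ↥G0 := by
  have h := H14.isMcL_stab pair_norms.1 pair_norms.2.1 pair_norms.2.2
  rwa [G0_eq] at h

theorem gen_ok : genImgOk Data.pcsMcL Data.certC275 ctx ctx.gens := by
  have h : allFrom (fun k => allFrom (fun i => Nat.blt (ctx.ap (getN ctx.gens k) i) 275 &&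
      checkImg (Data.pcsMcL.getD k ([], 0)) (Data.certC275.pt i)
        (Data.certC275.pt (ctx.ap (getN ctx.gens k) i))) 275 0) 2 0 = true := by decide +kernel
  intro k hk i hi
  have := allFrom_spec (allFrom_spec h k (Nat.zero_le _) (Nat.lt_of_lt_of_eq hk rfl)) i (Nat.zero_le _)
    (Nat.lt_of_lt_of_eq hi rfl)
  simp only [Bool.and_eq_true, Nat.blt_eq] at this
  exact this

/-- The generators. -/
def gen (c : Fin ctx.gens.length) : Perm (Fin ctx.n) :=
  genPerm fam (C := Data.certC275) ptVec_val Data.gensMcL_ok Data.pcsMcL_eq gens_mem rfl gen_ok c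

theorem gen_spec (c : Fin ctx.gens.length) :
    gen c ∈ fam.rho.range ∧ ctx.Rep (gen c) (getN ctx.gens c) :=
  (exists_gen_perm fam (C := Data.certC275) ptVec_val Data.gensMcL_ok Data.pcsMcL_eq gens_mem rfl
    gen_ok c).choose_spec

theorem rho_inj : Function.Injective fam.rho := by
  obtain ⟨⟨g, hg⟩, hr⟩ := gen_spec ⟨0, by decide +kernel⟩
  have hm : (ctx.ap (getN ctx.gens 0) 0 == 0) = false ∨ (ctx.ap (getN ctx.gens 0) 1 == 1) = false := by
    decide +kernel
  rcases hm with hm | hm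
  · refine fam.rho_injective G0_isMcL.1 (g := g) (i := ⟨0, by decide +kernel⟩) fun e => ?_
    have := hr ⟨0, by decide +kernel⟩
    rw [← hg, e] at this
    simp [← this] at hm
  · refine fam.rho_injective G0_isMcL.1 (g := g) (i := ⟨1, by decide +kernel⟩) fun e => ?_
    have := hr ⟨1, by decide +kernel⟩
    rw [← hg, e] at this
    simp [← this] at hm

theorem setting_eq : Setting ctx levels gen ∧ grpOf gen = fam.rho.range :=
  setting_of_model fam rho_inj (fun c => (gen_spec c).1) (fun c => (gen_spec c).2) slp_ok levels_ok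
    (prod_ok.trans G0_isMcL.2.symm)

/-- The group and its permutation image. -/
def equivG0 : ↥G0 ≃* ↥(grpOf gen) := modelEquiv fam rho_inj setting_eq.2

theorem card_grp : Nat.card (grpOf gen) = 898128000 := by
  rw [← Nat.card_congr equivG0.toEquiv]; exact G0_isMcL.2

theorem fac : (Nat.card (grpOf gen)).factorization cert.p = 1 := by
  rw [card_grp, show cert.p = 11 from rfl, show (898128000 : ℕ) = 11 ^ 1 * 81648000 by norm_num,
    Nat.factorization_mul (by norm_num) (by norm_num), Finsupp.add_apply,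
    Nat.Prime.factorization_pow (by norm_num),
    Nat.factorization_eq_zero_of_not_dvd (by norm_num : ¬ 11 ∣ 81648000)]
  simp

theorem outer_spec (x : Fin ctx.n) : ctx.ap outerPerm x < ctx.n ∧ ctx.ap outerInv x < ctx.n ∧
    ctx.ap outerInv (ctx.ap outerPerm x) = x ∧ ctx.ap outerPerm (ctx.ap outerInv x) = x := by
  have h := allFrom_spec outer_inv_ok x (Nat.zero_le _) (Nat.lt_of_lt_of_eq x.2 (Nat.zero_add _).symm)
  simp only [Bool.and_eq_true, Nat.blt_eq] at h
  exact ⟨h.1.2, h.2, Nat.eq_of_beq_eq_true h.1.1.1, Nat.eq_of_beq_eq_true h.1.1.2⟩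

/-- The outer permutation. -/
def tau : Perm (Fin ctx.n) where
  toFun x := ⟨ctx.ap outerPerm x, (outer_spec x).1⟩
  invFun x := ⟨ctx.ap outerInv x, (outer_spec x).2.1⟩
  left_inv x := Fin.ext (outer_spec x).2.2.1
  right_inv x := Fin.ext (outer_spec x).2.2.2

theorem card_out_grp : Nat.card (Cfsg.Out (grpOf gen)) = 2 := by
  obtain ⟨hS, -⟩ := setting_eq
  obtain ⟨β, hβ⟩ := exists_aut hS tau (S := outerPerm) (T := outerInv) (fun _ => rfl) (fun _ => rfl)
    outerImg outerImgInv outer_img_ok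
  refine card_out_two_of_triple hS cert_ok fac β (fun a ha => ?_) outerTrans_ok rfl rfl other_lt rfl
    outer_not_inner
  have hlt := other_lt
  simp only [List.all_eq_true, Nat.blt_eq, List.mem_append] at hlt
  have h1 : getN [cert.xi, cert.wi, cert.zi] a < ctx.ns :=
    hlt _ (Or.inl (getN_mem _ (Nat.lt_of_lt_of_eq ha rfl)))
  have h2 : getN cert.other a < ctx.ns := hlt _ (Or.inr (getN_mem _ (Nat.lt_of_lt_of_eq ha rfl)))
  refine Subtype.ext (Equiv.ext fun x => Fin.ext ?_)
  rw [hβ, Perm.mul_apply, Perm.mul_apply]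
  show ctx.ap outerPerm ((((elG hS (getN [cert.xi, cert.wi, cert.zi] a) : grpOf gen) :
    Perm (Fin ctx.n)) (tau⁻¹ x) : Fin ctx.n) : ℕ) = _
  rw [elG_rep hS h1, elG_rep hS h2]
  exact Ctx.pts_spec (allFrom_spec outer_triple_ok a (Nat.zero_le _) (by omega)) x

theorem list_norms : sqNorm ((Spor.leechV : ↥leechLattice) : GolayPt → ℤ) = 48 ∧
    sqNorm ((-Spor.leechU : ↥leechLattice) : GolayPt → ℤ) = 32 ∧
    dotInt ((Spor.leechV : ↥leechLattice) : GolayPt → ℤ)
      ((-Spor.leechU : ↥leechLattice) : GolayPt → ℤ) = 24 := by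
  show sqNorm Spor.vecV = 48 ∧ sqNorm (-Spor.vecU) = 32 ∧ dotInt Spor.vecV (-Spor.vecU) = 24
  decide +kernel

theorem nonempty_equiv_G0 : Nonempty (↥Spor.McL ≃* ↥G0) := by
  have hle : Spor.McL ≤ Co0 := fun g hg => hg.1.1
  have h1 : Spor.McL.subgroupOf Co0 =
      MulAction.stabilizer ↥Co0 Spor.leechV ⊓ MulAction.stabilizer ↥Co0 (-Spor.leechU) := by
    ext g
    show ((g : Equiv.Perm ↥leechLattice) ∈ Co0 ∧ g • Spor.leechV = Spor.leechV) ∧
      g • Spor.leechU = Spor.leechU ↔ g • Spor.leechV = Spor.leechV ∧ g • (-Spor.leechU) = -Spor.leechU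
    rw [co0_smul_neg, neg_inj]
    exact ⟨fun h => ⟨h.1.2, h.2⟩, fun h => ⟨⟨g.2, h.1⟩, h.2⟩⟩
  obtain ⟨g, g1, g2⟩ := exists_redB list_norms.1 (x := -Spor.leechU) ⟨list_norms.2.1, list_norms.2.2⟩
  exact ⟨((Subgroup.subgroupOfEquivOfLe hle).symm.trans (MulEquiv.subgroupCongr h1)).trans
    (H14.stabPairEquiv g g1 g2)⟩

theorem card_out_mcl : Nat.card (Cfsg.Out ↥Spor.McL) = 2 := by
  obtain ⟨e⟩ := nonempty_equiv_G0
  rw [card_out_congr (e.trans equivG0)]
  exact card_out_grp

end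

end Cfsg.Agent.H15.Out.McL
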