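import Cfsg.Agent.H15.Out.PtModel
import Cfsg.Agent.H14.Co0Order

/-!
Permutation models on pairs `{x, B - x}` of vectors, for subgroups of `Co0` fixing `B`.
-/

set_option autoImplicit false

open Equiv Cfsg.Agent.H16 Cfsg.Agent.H36.AutEngine Cfsg.Agent.H36

namespace Cfsg.Agent.H15.Out

/-- A family of pairs with sum `B`. -/
structure PairFam (n : ℕ) where
  /-- the common sum -/
  B : ↥leechLattice
  /-- one member of each pair -/
  x : Fin n → ↥leechLattice
  inj : Function.Injective x
  disj : ∀ i j, B - x i ≠ x j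

noncomputable section

namespace PairFam

variable {n : ℕ} (M : PairFam n)

/-- The point `j` is the image of the pair `i`. -/
def Sends (g : ↥Co0) (i j : Fin n) : Prop := g • M.x i = M.x j ∨ g • M.x i = M.B - M.x j

/-- The elements fixing the sum and permuting the pairs. -/
def submon : Submonoid ↥Co0 where
  carrier := {g | g • M.B = M.B ∧ ∀ i, ∃ j, M.Sends g i j}
  one_mem' := ⟨one_smul _ _, fun i => ⟨i, Or.inl (one_smul _ _)⟩⟩
  mul_mem' := by
    rintro g h ⟨gB, hg⟩ ⟨hB, hh⟩
    refine ⟨by rw [mul_smul, hB, gB], fun i => ?_⟩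
    obtain ⟨j, hj⟩ := hh i
    obtain ⟨k, hk⟩ := hg j
    refine ⟨k, ?_⟩
    rcases hj with hj | hj <;> rcases hk with hk | hk
    · exact Or.inl (by rw [mul_smul, hj, hk])
    · exact Or.inr (by rw [mul_smul, hj, hk])
    · exact Or.inr (by rw [mul_smul, hj, co0_smul_sub, gB, hk])
    · exact Or.inl (by rw [mul_smul, hj, co0_smul_sub, gB, hk, sub_sub_cancel])

theorem sends_unique {g : ↥Co0} {i j k : Fin n} (hj : M.Sends g i j) (hk : M.Sends g i k) :
    j = k := by
  rcases hj with hj | hj <;> rcases hk with hk | hk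
  · exact M.inj (hj.symm.trans hk)
  · exact absurd (hk.symm.trans hj) (M.disj k j)
  · exact absurd (hj.symm.trans hk) (M.disj j k)
  · exact M.inj (sub_right_injective (hj.symm.trans hk))

section

variable {G : Subgroup ↥Co0} (hG : ∀ g ∈ G, g ∈ M.submon)

/-- The map of an element. -/
def move (g : ↥G) (i : Fin n) : Fin n := ((hG g g.2).2 i).choose

theorem move_spec (g : ↥G) (i : Fin n) : M.Sends g i (M.move hG g i) :=
  ((hG g g.2).2 i).choose_spec

theorem move_mul (g h : ↥G) (i : Fin n) : M.move hG (g * h) i = M.move hG g (M.move hG h i) := by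
  refine M.sends_unique (M.move_spec hG (g * h) i) ?_
  show M.Sends ((g : ↥Co0) * h) i _
  rcases M.move_spec hG h i with e | e <;> rcases M.move_spec hG g (M.move hG h i) with e' | e'
  · exact Or.inl (by rw [mul_smul, e, e'])
  · exact Or.inr (by rw [mul_smul, e, e'])
  · exact Or.inr (by rw [mul_smul, e, co0_smul_sub, (hG g g.2).1, e'])
  · exact Or.inl (by rw [mul_smul, e, co0_smul_sub, (hG g g.2).1, e', sub_sub_cancel])

theorem move_one (i : Fin n) : M.move hG 1 i = i :=
  M.sends_unique (M.move_spec hG 1 i) (Or.inl (one_smul _ _))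

/-- The permutation representation. -/
def rho : ↥G →* Perm (Fin n) where
  toFun g :=
    { toFun := M.move hG g
      invFun := M.move hG g⁻¹
      left_inv := fun i => by rw [← M.move_mul, inv_mul_cancel, M.move_one]
      right_inv := fun i => by rw [← M.move_mul, mul_inv_cancel, M.move_one] }
  map_one' := Equiv.ext (M.move_one hG)
  map_mul' g h := Equiv.ext (M.move_mul hG g h)

theorem rho_apply (g : ↥G) (i : Fin n) : M.Sends g i (M.rho hG g i) := M.move_spec hG g i

end

end PairFam

/-- A model of a subgroup generated by elements permuting a family of pairs, whose image is certified to be as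
large as the group containing it. -/
theorem pair_setting {D : Ctx} {Ls : List Level} (M : PairFam D.n) {H : Subgroup ↥Co0}
    (mg : Fin D.gens.length → ↥Co0) (hmg : ∀ c, mg c ∈ H) (hmon : ∀ c, mg c ∈ M.submon)
    {σ : Fin D.gens.length → Perm (Fin D.n)} (hrep : ∀ c, D.Rep (σ c) (getN D.gens c))
    (hsend : ∀ c i, M.Sends (mg c) i (σ c i))
    (hslp : ∀ k, k < D.ns → D.slpOk k = true) (hlev : D.levelsOk Ls [] = true)
    (hprod : D.prodCnt Ls = Nat.card ↥H) :
    Setting D Ls σ ∧ Nonempty (↥H ≃* ↥(grpOf σ)) := by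
  classical
  haveI : Finite ↥Co0 := Nat.finite_of_card_ne_zero (by rw [H14.card_Co0]; norm_num)
  set G := Subgroup.closure (Set.range mg) with hGdef
  have hle : G ≤ H := (Subgroup.closure_le _).2 (by rintro _ ⟨c, rfl⟩; exact hmg c)
  have hG : ∀ g ∈ G, g ∈ M.submon := by
    intro g hg
    rw [hGdef, ← Subgroup.mem_toSubmonoid, Subgroup.closure_toSubmonoid_of_finite] at hg
    refine (Submonoid.closure_le.2 ?_) hg
    rintro _ ⟨c, rfl⟩
    exact hmon c
  have hσ : ∀ c, σ c = M.rho hG ⟨mg c, Subgroup.subset_closure ⟨c, rfl⟩⟩ := fun c =>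
    Equiv.ext fun i => M.sends_unique (hsend c i) (M.rho_apply hG ⟨mg c, _⟩ i)
  have hr : grpOf σ ≤ (M.rho hG).range :=
    (Subgroup.closure_le _).2 (by rintro _ ⟨c, rfl⟩; exact ⟨_, (hσ c).symm⟩)
  have c1 := Ctx.prodCnt_le σ hrep hslp (Ls := Ls) hlev
  have c2 : Nat.card ↥(grpOf σ) ≤ Nat.card ↥(M.rho hG).range :=
    Nat.card_le_card_of_injective _ (Subgroup.inclusion_injective hr)
  have c3 : Nat.card ↥(M.rho hG).range ≤ Nat.card ↥G :=
    Nat.card_le_card_of_surjective _ (M.rho hG).rangeRestrict_surjective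
  have c4 : Nat.card ↥G ≤ Nat.card ↥H :=
    Nat.card_le_card_of_injective _ (Subgroup.inclusion_injective hle)
  have c1' : D.prodCnt Ls ≤ Nat.card ↥(grpOf σ) := c1
  have eGH : G = H := Subgroup.eq_of_le_of_card_ge hle (by omega)
  have hinj : Function.Injective (M.rho hG) := by
    have hb : Function.Bijective (M.rho hG).rangeRestrict :=
      (Nat.bijective_iff_surjective_and_card _).2 ⟨(M.rho hG).rangeRestrict_surjective, by omega⟩
    exact fun a b e => hb.1 (Subtype.ext e)
  have eK : grpOf σ = (M.rho hG).range := Subgroup.eq_of_le_of_card_ge hr (by omega)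
  exact ⟨⟨hrep, hslp, hlev, by show D.prodCnt Ls = Nat.card ↥(grpOf σ); omega⟩,
    ⟨(MulEquiv.subgroupCongr eGH.symm).trans
      ((MonoidHom.ofInjective hinj).trans (MulEquiv.subgroupCongr eK.symm))⟩⟩

end

end Cfsg.Agent.H15.Out
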