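import Cfsg.Agent.H15.ConwayBase
import Cfsg.Agent.H36.AutEngine

/-!
Permutation models of subgroups of `Co0` acting on a finite family of lattice vectors, for the
certificates of `H36.AutEngine`.
-/

set_option autoImplicit false

open Equiv Cfsg.Agent.H16 Cfsg.Agent.H36.AutEngine Cfsg.Agent.H36

namespace Cfsg.Agent.H15.Out

/-- A subgroup permuting a finite family of vectors. -/
structure PtFam (n : ℕ) where
  /-- the group -/
  G : Subgroup ↥Co0
  /-- the vectors -/
  pt : Fin n → ↥leechLattice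
  inj : Function.Injective pt
  stable : ∀ g ∈ G, ∀ i, ∃ j, g • pt i = pt j

noncomputable section

namespace PtFam

variable {n : ℕ} (M : PtFam n)

/-- The map of an element. -/
def move (g : ↥M.G) (i : Fin n) : Fin n := (M.stable g g.2 i).choose

theorem move_spec (g : ↥M.G) (i : Fin n) : (g : ↥Co0) • M.pt i = M.pt (M.move g i) :=
  (M.stable g g.2 i).choose_spec

theorem move_mul (g h : ↥M.G) (i : Fin n) : M.move (g * h) i = M.move g (M.move h i) :=
  M.inj (by rw [← M.move_spec, Subgroup.coe_mul, mul_smul, M.move_spec h i, M.move_spec g])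

theorem move_one (i : Fin n) : M.move 1 i = i :=
  M.inj (by rw [← M.move_spec, Subgroup.coe_one, one_smul])

/-- The permutation representation. -/
def rho : ↥M.G →* Perm (Fin n) where
  toFun g :=
    { toFun := M.move g
      invFun := M.move g⁻¹
      left_inv := fun i => by rw [← M.move_mul, inv_mul_cancel, M.move_one]
      right_inv := fun i => by rw [← M.move_mul, mul_inv_cancel, M.move_one] }
  map_one' := Equiv.ext M.move_one
  map_mul' g h := Equiv.ext (M.move_mul g h)

theorem rho_apply (g : ↥M.G) (i : Fin n) : M.pt (M.rho g i) = (g : ↥Co0) • M.pt i :=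
  (M.move_spec g i).symm

theorem rho_injective (hs : IsSimpleGroup ↥M.G) {g : ↥M.G} {i : Fin n}
    (hg : M.rho g i ≠ i) : Function.Injective M.rho := by
  rw [← MonoidHom.ker_eq_bot_iff]
  refine (hs.eq_bot_or_eq_top_of_normal _ inferInstance).resolve_right fun htop => hg ?_
  have h1 : M.rho g = 1 := by rw [← MonoidHom.mem_ker, htop]; exact Subgroup.mem_top g
  rw [h1]; rfl

end PtFam

/-- The certified image of a packed point under a generator matrix. -/
def genImgOk (pcs : List (List ℕ × ℕ)) (C : OrbitCert) (D : Ctx) (gt : List ℕ) : Prop :=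
  ∀ k < gt.length, ∀ i < D.n,
    D.ap (getN gt k) i < D.n ∧
      checkImg (pcs.getD k ([], 0)) (C.pt i) (C.pt (D.ap (getN gt k) i)) = true

theorem exists_gen_perm {D : Ctx} (M : PtFam D.n) {C : OrbitCert}
    (hpt : ∀ i : Fin D.n, (M.pt i).1 = vecOf (C.pt i)) {Ms : List Mat} (hM : ∀ A ∈ Ms, A.ok = true)
    {pcs : List (List ℕ × ℕ)} (hpc : Ms.map (fun A => packCols A.cols) = pcs)
    (hmem : ∀ A, ∀ hA : A ∈ Ms, matAut A (hM A hA) ∈ M.G)
    (hlen : D.gens.length = Ms.length) (hok : genImgOk pcs C D D.gens)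
    (c : Fin D.gens.length) : ∃ s ∈ M.rho.range, D.Rep s (getN D.gens c) := by
  have hc : (c : ℕ) < Ms.length := hlen ▸ c.2
  have hm := getD_mem (d := (⟨[], []⟩ : Mat)) hc
  refine ⟨M.rho ⟨_, hmem _ hm⟩, ⟨_, rfl⟩, fun x => ?_⟩
  obtain ⟨hlt, hchk⟩ := hok c c.2 x x.2
  rw [← hpc, getD_map_of_lt (e := (⟨[], []⟩ : Mat)) _ hc] at hchk
  have h : M.rho ⟨_, hmem _ hm⟩ x = ⟨_, hlt⟩ := by
    refine M.inj (Subtype.ext ?_)
    rw [M.rho_apply, hpt ⟨_, hlt⟩]
    exact smul_eq_of_check (hM _ hm) hchk (hpt x)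
  rw [h]

/-- The permutation of a generator. -/
def genPerm {D : Ctx} (M : PtFam D.n) {C : OrbitCert}
    (hpt : ∀ i : Fin D.n, (M.pt i).1 = vecOf (C.pt i)) {Ms : List Mat} (hM : ∀ A ∈ Ms, A.ok = true)
    {pcs : List (List ℕ × ℕ)} (hpc : Ms.map (fun A => packCols A.cols) = pcs)
    (hmem : ∀ A, ∀ hA : A ∈ Ms, matAut A (hM A hA) ∈ M.G)
    (hlen : D.gens.length = Ms.length) (hok : genImgOk pcs C D D.gens)
    (c : Fin D.gens.length) : Perm (Fin D.n) :=
  (exists_gen_perm M hpt hM hpc hmem hlen hok c).choose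

/-- A certified model of a simple subgroup. -/
theorem setting_of_model {D : Ctx} {Ls : List Level} (M : PtFam D.n)
    (hinj : Function.Injective M.rho) {σ : Fin D.gens.length → Perm (Fin D.n)}
    (hσ : ∀ c, σ c ∈ M.rho.range) (hrep : ∀ c, D.Rep (σ c) (getN D.gens c))
    (hslp : ∀ k, k < D.ns → D.slpOk k = true) (hlev : D.levelsOk Ls [] = true)
    (hprod : D.prodCnt Ls = Nat.card ↥M.G) :
    Setting D Ls σ ∧ grpOf σ = M.rho.range := by
  have hle : grpOf σ ≤ M.rho.range :=
    (Subgroup.closure_le _).2 (by rintro _ ⟨c, rfl⟩; exact hσ c)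
  have hge := Ctx.prodCnt_le σ hrep hslp (Ls := Ls) hlev
  have hcard : Nat.card ↥M.rho.range = Nat.card ↥M.G :=
    (Nat.card_congr (MonoidHom.ofInjective hinj).toEquiv).symm
  have heq : grpOf σ = M.rho.range :=
    Subgroup.eq_of_le_of_card_ge hle (by rw [hcard, ← hprod]; exact hge)
  refine ⟨⟨hrep, hslp, hlev, ?_⟩, heq⟩
  rw [hprod, ← hcard, ← heq]
  rfl

/-- The group and its permutation image. -/
def modelEquiv {n : ℕ} (M : PtFam n) (hinj : Function.Injective M.rho) {K : Subgroup (Perm (Fin n))}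
    (h : K = M.rho.range) : ↥M.G ≃* ↥K :=
  (MonoidHom.ofInjective hinj).trans (MulEquiv.subgroupCongr h.symm)

/-- Isomorphic groups have equally many outer automorphism classes. -/
theorem card_out_congr {A B : Type*} [Group A] [Group B] (e : A ≃* B) :
    Nat.card (Cfsg.Out A) = Nat.card (Cfsg.Out B) := by
  refine Nat.card_congr (QuotientGroup.congr _ _ (MulAut.congr e) ?_).toEquiv
  ext x
  constructor
  · rintro ⟨_, ⟨g, rfl⟩, rfl⟩
    exact ⟨e g, by ext y; simp [MulAut.congr]⟩
  · rintro ⟨h, rfl⟩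
    exact ⟨MulAut.conj (e.symm h), ⟨_, rfl⟩, by ext y; simp [MulAut.congr]⟩

/-- Two outer classes, when no element conjugates the first triple to the second. -/
theorem card_out_two_of_triple {D : Ctx} {Ls : List Level} {σ : Fin D.gens.length → Perm (Fin D.n)}
    (hS : Setting D Ls σ) {A : Cert} (hA : CertOk D Ls A 1)
    (hfac : (Nat.card (grpOf σ)).factorization A.p = 1) (β : MulAut (grpOf σ))
    (hβ : ∀ a, a < 3 → β (elG hS (getN [A.xi, A.wi, A.zi] a)) = elG hS (getN A.other a))
    {T : TransCert} (hT : TransOk D Ls T) (hg : T.g = A.xi) (hh : T.h = getN A.other 0)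
    (hlt : ([A.xi, A.wi, A.zi] ++ A.other).all (fun a => Nat.blt a D.ns) = true)
    (hlen : A.other.length = 3)
    (hno : T.sols.all (fun c => !(D.eqOn Ls [c, A.wi] [getN A.other 1, c] &&
      D.eqOn Ls [c, A.zi] [getN A.other 2, c])) = true) :
    Nat.card (Cfsg.Out (grpOf σ)) = 2 := by
  have hne : β ∉ Cfsg.Inn (grpOf σ) := by
    rintro ⟨c, hc⟩
    obtain ⟨i, hi, e⟩ := trans_complete hS hT (c := c) (by
      rw [hg, hh, ← hβ 0 (by norm_num), ← hc]; rfl)
    have hsh := hT.shape
    simp only [Ctx.transShapeOk, Bool.and_eq_true, List.all_eq_true, Nat.blt_eq] at hsh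
    have hsol := hsh.1.1.1.2 _ (getN_mem _ hi)
    simp only [List.all_eq_true, Nat.blt_eq, List.mem_append] at hlt
    have hb : ∀ a, a < 3 → D.eqOn Ls [getN T.sols i, getN [A.xi, A.wi, A.zi] a]
        [getN A.other a, getN T.sols i] = true := by
      intro a ha
      have h1 : getN [A.xi, A.wi, A.zi] a < D.ns :=
        hlt _ (Or.inl (getN_mem _ (Nat.lt_of_lt_of_eq ha rfl)))
      have h2 : getN A.other a < D.ns := hlt _ (Or.inr (getN_mem _ (by omega)))
      refine eqOn_of_eq hS (by simp [hsol, h1]) (by simp [hsol, h2]) ?_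
      rw [prodG_pair, prodG_pair, ← hβ a ha, ← hc, ← e]
      show c * _ = c * _ * c⁻¹ * c
      rw [inv_mul_cancel_right]
    have := List.all_eq_true.1 hno _ (getN_mem _ hi)
    have h1 := hb 1 (by norm_num)
    have h2 := hb 2 (by norm_num)
    rw [show getN [A.xi, A.wi, A.zi] 1 = A.wi from rfl] at h1
    rw [show getN [A.xi, A.wi, A.zi] 2 = A.zi from rfl] at h2
    rw [h1, h2] at this
    exact absurd this (by decide)
  rw [Nat.card_eq_two_iff]
  refine ⟨1, QuotientGroup.mk β, fun e => hne ((QuotientGroup.eq_one_iff _).1 e.symm),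
    Set.eq_univ_of_forall fun q => ?_⟩
  induction q using QuotientGroup.induction_on with
  | H φ =>
    obtain ⟨g, d, hd, h⟩ := aut_cases hS hA hfac φ
    rcases Nat.le_one_iff_eq_zero_or_eq_one.1 hd with rfl | rfl
    · exact Or.inl ((QuotientGroup.eq_one_iff _).2
        ⟨g, (aut_ext hS hA.main (h 0 (by norm_num)) (h 1 (by norm_num)) (h 2 (by norm_num))).symm⟩)
    · refine Or.inr ?_
      show (QuotientGroup.mk φ : Cfsg.Out (grpOf σ)) = QuotientGroup.mk β
      have e : φ = MulAut.conj g * β := by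
        refine aut_ext hS hA.main ?_ ?_ ?_ <;> rw [MulAut.mul_apply, MulAut.conj_apply]
        · exact (h 0 (by norm_num)).trans (congrArg (fun q => g * q * g⁻¹) (hβ 0 (by norm_num)).symm)
        · exact (h 1 (by norm_num)).trans (congrArg (fun q => g * q * g⁻¹) (hβ 1 (by norm_num)).symm)
        · exact (h 2 (by norm_num)).trans (congrArg (fun q => g * q * g⁻¹) (hβ 2 (by norm_num)).symm)
      rw [e, QuotientGroup.mk_mul,
        (QuotientGroup.eq_one_iff (N := Cfsg.Inn (grpOf σ)) (MulAut.conj g)).2 ⟨g, rfl⟩, one_mul]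

end

end Cfsg.Agent.H15.Out
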